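import Cfsg.Agent.H706.PB.Defs

/-!
# S4884: the third alternative of the rows (helper755, helper362)

* `RowRho q S` : `B_0(2) ∩ B_0(q)` contains a nontrivial character of degree prime to `2 q`, fixed by the field automorphism
  which is the identity on the `q`-power roots of unity and inverts the roots of unity of order prime to `q`;
* `RowP q S := Row q S ∨ RowRho q S`; `RowForP q C` : the rows for a family; `RowFor.p`, `RowForR.p`.
-/

set_option autoImplicit false

open Subgroup

namespace Cfsg.Agent.H362.PB84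

open Cfsg Cfsg.Agent.Characters.Core Cfsg.Agent.H706.PB

universe u v

/-- a character in both principal blocks, fixed by the power maps `m` with `x ^ m = x` for the `q`-elements and
`x ^ m = x⁻¹` for the `q'`-elements -/
def RowRho (q : ℕ) (S : Type u) [Group S] : Prop :=
  ∀ M2 Mq : Ideal AlgInt, IsPModular 2 M2 → IsPModular q Mq → ∃ θ : IrrCharacter S,
    θ ∈ principalBlock M2 S ∧ θ ∈ principalBlock Mq S ∧
    (θ : S → ℂ) ≠ (fun _ => (1 : ℂ)) ∧ ¬ 2 ∣ charDegree (θ : S → ℂ) ∧ ¬ q ∣ charDegree (θ : S → ℂ) ∧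
    ∀ m : ℕ, (∀ x : S, (∃ k, x ^ q ^ k = 1) → x ^ m = x) → (∀ x : S, ¬ q ∣ orderOf x → x ^ m = x⁻¹) →
      ∀ g : S, (θ : S → ℂ) (g ^ m) = (θ : S → ℂ) g

/-- **the row with the third alternative** -/
def RowP (q : ℕ) (S : Type u) [Group S] : Prop := Row q S ∨ RowRho q S

/-- all nonabelian simple groups of order divisible by `q` -/
def AllRowsP (q : ℕ) : Prop :=
  ∀ (S : Type u) [Group S] [Finite S] [IsSimpleGroup S], ¬ IsMulCommutative S → q ∣ Nat.card S → RowP q S

theorem RowRho.congr {q : ℕ} {S : Type u} [Group S] [Finite S] {T : Type v} [Group T] (e : S ≃* T)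
    (h : RowRho q T) : RowRho q S := by
  intro M2 Mq hM2 hMq
  obtain ⟨θ, h1, h1', h2, h3, h4, h5⟩ := h M2 Mq hM2 hMq
  refine ⟨⟨_, isIrr_comp (e : S →* T) e.surjective θ.2⟩, H493.RatB.mem_principalBlock_comp e h1,
    H493.RatB.mem_principalBlock_comp e h1', fun h6 => h2 ?_, ?_, ?_, ?_⟩
  · funext y
    obtain ⟨x, rfl⟩ := e.surjective y
    exact congrFun h6 x
  · show ¬ 2 ∣ charDegree (fun x : S => (θ : T → ℂ) (e x))
    rwa [charDegree_comp]
  · show ¬ q ∣ charDegree (fun x : S => (θ : T → ℂ) (e x))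
    rwa [charDegree_comp]
  · intro m hm1 hm2 g
    show (θ : T → ℂ) (e (g ^ m)) = (θ : T → ℂ) (e g)
    rw [map_pow]
    refine h5 m ?_ ?_ (e g)
    · rintro y ⟨k, hk⟩
      obtain ⟨x, rfl⟩ := e.surjective y
      rw [← map_pow] at hk ⊢
      rw [hm1 x ⟨k, e.injective (by rw [hk, map_one])⟩]
    · intro y hy
      obtain ⟨x, rfl⟩ := e.surjective y
      have ho : orderOf (e x) = orderOf x := MulEquiv.orderOf_eq e x
      rw [ho] at hy
      rw [← map_pow, hm2 x hy, map_inv]

theorem RowP.congr {q : ℕ} [Fact q.Prime] {S : Type u} [Group S] [Finite S] {T : Type v} [Group T] (e : S ≃* T)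
    (h : RowP q T) : RowP q S := by
  rcases h with h | h
  · exact Or.inl (h.congr e)
  · exact Or.inr (h.congr e)

/-- the rows for a family -/
def RowForP (q : ℕ) (C : ∀ (X : Type) [Group X], Prop) : Prop :=
  ∀ (X : Type) [Group X] [Finite X] [IsSimpleGroup X], ¬ IsMulCommutative X → q ∣ Nat.card X → C X → RowP q X

theorem RowForP.of_rowFor {q : ℕ} {C : ∀ (X : Type) [Group X], Prop} (h : RowFor q C) : RowForP q C :=
  fun X _ _ _ h1 h2 h3 => Or.inl (h X h1 h2 h3)

theorem RowForP.of_real {q : ℕ} {C : ∀ (X : Type) [Group X], Prop} (h : RowForR q C) : RowForP q C :=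
  fun X _ _ _ h1 h2 h3 => Or.inl (Or.inl (h X h1 h2 h3))

end Cfsg.Agent.H362.PB84
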