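import Cfsg.Agent.H360.PB.FE
import Cfsg.Agent.H362.PB84.RhoDef

/-!
# S4884, the reduction: lemmas (F) and (E) of helper360 for the hypothesis `AllB` (copy of `H360/PB/FE.lean`)
-/

set_option autoImplicit false

open scoped ComplexConjugate
open Cfsg Subgroup

namespace Cfsg.Agent.H362.PB84.FEB

open Cfsg.Agent.H706.PB Cfsg.Agent.Characters.Core
open Cfsg.Agent.Blocks.Local Cfsg.Agent.Blocks.Basic
open Cfsg.Agent.H684.BlockTools (infl)
open Cfsg.Agent.H360.PB (charDegree_infl infl_ne_one exists_ne_one degree_prime exists_normal card_quotient_lt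
  nontrivial_quotient)

universe u

/-- a nontrivial character of degree prime to `2 q` in both principal blocks, for every simple group -/
def AllB (q : ℕ) : Prop :=
  ∀ (S : Type u) [Group S] [Finite S] [IsSimpleGroup S], ¬ IsMulCommutative S → q ∣ Nat.card S → RowB q S

theorem _root_.Cfsg.Agent.H362.PB84.RowP.rowB {q : ℕ} {S : Type u} [Group S] [Finite S] (h : RowP q S) : RowB q S := by
  rcases h with h | h
  · exact h.rowB
  · intro M2 Mq hM2 hMq
    obtain ⟨θ, h1, h2, h3, h4, h5, -⟩ := h M2 Mq hM2 hMq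
    exact ⟨θ, h1, h2, h3, h4, h5⟩

theorem _root_.Cfsg.Agent.H362.PB84.AllRowsP.allB {q : ℕ} (h : AllRowsP.{u} q) : AllB.{u} q :=
  fun S _ _ _ h1 h2 => (h S h1 h2).rowB

/-- **(F)** -/
theorem F {q : ℕ} [hq : Fact q.Prime] (hR : AllB.{u} q) (X : Type u) [Group X] [Finite X] [Nontrivial X] :
    ∃ χ : IrrCharacter X, (χ : X → ℂ) ≠ (fun _ => 1) ∧ ¬ 2 ∣ charDegree (χ : X → ℂ) ∧
      ¬ q ∣ charDegree (χ : X → ℂ) := by
  classical
  suffices h : ∀ n : ℕ, ∀ (X : Type u) [Group X] [Finite X] [Nontrivial X], Nat.card X = n →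
      ∃ χ : IrrCharacter X, (χ : X → ℂ) ≠ (fun _ => 1) ∧ ¬ 2 ∣ charDegree (χ : X → ℂ) ∧
        ¬ q ∣ charDegree (χ : X → ℂ) from h _ X rfl
  intro n
  induction n using Nat.strong_induction_on with
  | _ n ih =>
    intro X _ _ _ hn
    have hdd : ∀ χ : IrrCharacter X, charDegree (χ : X → ℂ) ∣ Nat.card X :=
      fun χ => Cfsg.Agent.Blocks.CyclicUpper.charDegree_dvd χ.2
    by_cases hs : IsSimpleGroup X
    · by_cases hc : IsMulCommutative X
      · -- abelian
        let iC : CommGroup X := { (inferInstance : Group X) with mul_comm := hc.is_comm.comm }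
        have hpr : (Nat.card X).Prime := IsSimpleGroup.prime_card
        obtain ⟨χ, hχ⟩ := exists_ne_one X
        refine ⟨χ, hχ, ?_, ?_⟩
        · rw [degree_prime X hpr χ]; norm_num
        · rw [degree_prime X hpr χ, Nat.dvd_one]; exact hq.out.ne_one
      · by_cases hd : q ∣ Nat.card X
        · obtain ⟨M2, hM2⟩ := Cfsg.Agent.Blocks.ExistsModular.exists_isPModular Nat.prime_two
          obtain ⟨Mq, hMq⟩ := Cfsg.Agent.Blocks.ExistsModular.exists_isPModular hq.out
          obtain ⟨θ, -, -, h1, h2, h3⟩ := hR X hc hd M2 Mq hM2 hMq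
          exact ⟨θ, h1, h2, h3⟩
        · by_cases h2X : 2 ∣ Nat.card X
          · obtain ⟨M2, hM2⟩ := Cfsg.Agent.Blocks.ExistsModular.exists_isPModular Nat.prime_two
            obtain ⟨θ, -, h1, h2⟩ := Cfsg.Agent.H319.PQ.Red2.exists_odd_two hM2 h2X
            exact ⟨θ, h2, h1, fun h => hd (h.trans (hdd θ))⟩
          · obtain ⟨χ, hχ⟩ := exists_ne_one X
            exact ⟨χ, hχ, fun h => h2X (h.trans (hdd χ)), fun h => hd (h.trans (hdd χ))⟩
    · obtain ⟨N, hN, hN1, hN2⟩ := exists_normal hs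
      have hnt := nontrivial_quotient N hN2
      obtain ⟨χ, h1, h2, h3⟩ := ih _ (hn ▸ card_quotient_lt N hN1) (X ⧸ N) rfl
      refine ⟨infl (QuotientGroup.mk' N) (QuotientGroup.mk'_surjective N) χ, infl_ne_one _ _ h1, ?_, ?_⟩
      · rwa [charDegree_infl]
      · rwa [charDegree_infl]

/-- **(E), the top**: no proper normal subgroup of index prime to `p` -/
theorem E_top {q : ℕ} [hq : Fact q.Prime] (hR : AllB.{u} q) {p : ℕ} [hp : Fact p.Prime] (hpq : p = 2 ∨ p = q)
    {M : Ideal AlgInt} (hM : IsPModular p M) (X : Type u) [Group X] [Finite X] (hd : p ∣ Nat.card X)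
    (htop : ∀ N : Subgroup X, N.Normal → ¬ p ∣ N.index → N = ⊤) :
    ∃ χ : IrrCharacter X, χ ∈ principalBlock M X ∧ (χ : X → ℂ) ≠ (fun _ => 1) ∧
      ¬ 2 ∣ charDegree (χ : X → ℂ) ∧ ¬ q ∣ charDegree (χ : X → ℂ) := by
  classical
  have hMp := isPrime_of_isPModular hM
  suffices h : ∀ n : ℕ, ∀ (X : Type u) [Group X] [Finite X], Nat.card X = n → p ∣ Nat.card X →
      (∀ N : Subgroup X, N.Normal → ¬ p ∣ N.index → N = ⊤) →
      ∃ χ : IrrCharacter X, χ ∈ principalBlock M X ∧ (χ : X → ℂ) ≠ (fun _ => 1) ∧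
        ¬ 2 ∣ charDegree (χ : X → ℂ) ∧ ¬ q ∣ charDegree (χ : X → ℂ) from h _ X rfl hd htop
  intro n
  induction n using Nat.strong_induction_on with
  | _ n ih =>
    intro X _ _ hn hd htop
    have hnt : Nontrivial X := by
      rw [← Finite.one_lt_card_iff_nontrivial]
      exact hp.out.one_lt.trans_le (Nat.le_of_dvd Nat.card_pos hd)
    have hdd : ∀ χ : IrrCharacter X, charDegree (χ : X → ℂ) ∣ Nat.card X :=
      fun χ => Cfsg.Agent.Blocks.CyclicUpper.charDegree_dvd χ.2
    by_cases hs : IsSimpleGroup X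
    · by_cases hc : IsMulCommutative X
      · -- abelian
        let iC : CommGroup X := { (inferInstance : Group X) with mul_comm := hc.is_comm.comm }
        have hpr : (Nat.card X).Prime := IsSimpleGroup.prime_card
        have hcard : Nat.card X = p := ((Nat.prime_dvd_prime_iff_eq hp.out hpr).1 hd).symm
        obtain ⟨χ, h1, h2, h3⟩ := F hR X
        refine ⟨χ, ?_, h1, h2, h3⟩
        have hU : IsPGroup p (⊤ : Subgroup X) := by
          rw [IsPGroup.iff_card]
          exact ⟨1, by rw [Subgroup.card_top, hcard, pow_one]⟩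
        refine Cfsg.Agent.H493.RatB.mem_of_value hM hU χ ?_ ?_
        · rcases hpq with h | h
          · rwa [h]
          · rwa [h]
        · intro y _ hy
          have h4 : orderOf y ∣ p := hcard ▸ orderOf_dvd_natCard y
          rcases (Nat.dvd_prime hp.out).1 h4 with h5 | h5
          · rw [orderOf_eq_one_iff.1 h5, sub_self]
            exact memLocalIdeal_zero
          · exact absurd (dvd_of_eq h5.symm) hy
      · by_cases hd' : q ∣ Nat.card X
        · rcases hpq with rfl | rfl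
          · obtain ⟨Mq, hMq⟩ := Cfsg.Agent.Blocks.ExistsModular.exists_isPModular hq.out
            obtain ⟨θ, h0, -, h1, h2, h3⟩ := hR X hc hd' M Mq hM hMq
            exact ⟨θ, h0, h1, h2, h3⟩
          · obtain ⟨M2, hM2⟩ := Cfsg.Agent.Blocks.ExistsModular.exists_isPModular Nat.prime_two
            obtain ⟨θ, -, h0, h1, h2, h3⟩ := hR X hc hd' M2 M hM2 hM
            exact ⟨θ, h0, h1, h2, h3⟩
        · rcases hpq with rfl | rfl
          · obtain ⟨θ, h0, h1, h2⟩ := Cfsg.Agent.H319.PQ.Red2.exists_odd_two hM hd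
            exact ⟨θ, h0, h2, h1, fun h => hd' (h.trans (hdd θ))⟩
          · exact absurd hd hd'
    · obtain ⟨N, hN, hN1, hN2⟩ := exists_normal hs
      have hd1 : p ∣ Nat.card (X ⧸ N) := by
        by_contra hcon
        exact hN2 (htop N hN hcon)
      obtain ⟨χ, h0, h1, h2, h3⟩ := ih _ (hn ▸ card_quotient_lt N hN1) (X ⧸ N) rfl hd1 (by
        intro L hL hLi
        have h4 := htop (L.comap (QuotientGroup.mk' N)) inferInstance (by
          rwa [Subgroup.index_comap_of_surjective L (QuotientGroup.mk'_surjective N)])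
        rw [eq_top_iff]
        intro x _
        obtain ⟨y, rfl⟩ := QuotientGroup.mk'_surjective N x
        have h5 : y ∈ L.comap (QuotientGroup.mk' N) := by rw [h4]; exact Subgroup.mem_top y
        exact h5)
      refine ⟨infl (QuotientGroup.mk' N) (QuotientGroup.mk'_surjective N) χ,
        Cfsg.Agent.H684.BlockTools.infl_mem hM _ _ h0, infl_ne_one _ _ h1, ?_, ?_⟩
      · rwa [charDegree_infl]
      · rwa [charDegree_infl]

/-- a normal subgroup of index prime to `p` contains the `p`-elements -/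
theorem mem_of_isPGroup {p : ℕ} [hp : Fact p.Prime] {Y : Type u} [Group Y] [Finite Y] (N : Subgroup Y) [N.Normal]
    (hN : ¬ p ∣ N.index) {y : Y} (hy : ∃ k : ℕ, y ^ p ^ k = 1) : y ∈ N := by
  obtain ⟨k, hk⟩ := hy
  have h1 : orderOf (y : Y ⧸ N) ∣ p ^ k := by
    apply orderOf_dvd_of_pow_eq_one
    rw [← QuotientGroup.mk_pow, hk, QuotientGroup.mk_one]
  have h2 : orderOf (y : Y ⧸ N) ∣ N.index := orderOf_dvd_natCard _
  have h3 : orderOf (y : Y ⧸ N) = 1 :=
    Nat.eq_one_of_dvd_coprimes (((Nat.Prime.coprime_iff_not_dvd hp.out).2 hN).pow_left k) h1 h2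
  rw [orderOf_eq_one_iff, QuotientGroup.eq_one_iff] at h3
  exact h3

/-- the normal closure of a Sylow `p`-subgroup has no proper normal subgroup of index prime to `p` -/
theorem normalClosure_top {p : ℕ} [hp : Fact p.Prime] {X : Type u} [Group X] [Finite X] (P : Sylow p X)
    (N : Subgroup (Subgroup.normalClosure ((P : Subgroup X) : Set X))) (hN : N.Normal) (hi : ¬ p ∣ N.index) :
    N = ⊤ := by
  have hle : Subgroup.normalClosure ((P : Subgroup X) : Set X) ≤ N.map (Subgroup.subtype _) := by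
    conv_lhs => unfold Subgroup.normalClosure
    rw [Subgroup.closure_le]
    intro z hz
    obtain ⟨x, hx, hxz⟩ := Group.mem_conjugatesOfSet_iff.1 hz
    have hzY : z ∈ Subgroup.normalClosure ((P : Subgroup X) : Set X) :=
      Subgroup.conjugatesOfSet_subset_normalClosure hz
    refine ⟨⟨z, hzY⟩, ?_, rfl⟩
    apply mem_of_isPGroup N hi
    obtain ⟨k, hk⟩ := P.isPGroup' ⟨x, hx⟩
    refine ⟨k, Subtype.ext ?_⟩
    obtain ⟨c, hc⟩ := isConj_iff.1 hxz
    have hk' : x ^ p ^ k = 1 := congrArg Subtype.val hk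
    show z ^ p ^ k = 1
    rw [← hc, conj_pow, hk', mul_one, mul_inv_cancel]
  rw [eq_top_iff]
  rintro ⟨y, hy⟩ -
  obtain ⟨n, hn, hny⟩ := hle hy
  have : n = ⟨y, hy⟩ := Subtype.ext hny
  exact this ▸ hn

/-- **(E), the core** -/
theorem E_core {q : ℕ} [hq : Fact q.Prime] (hR : AllB.{u} q) {p : ℕ} [hp : Fact p.Prime] (hpq : p = 2 ∨ p = q)
    {M : Ideal AlgInt} (hM : IsPModular p M) (X : Type u) [Group X] [Finite X] (hd : p ∣ Nat.card X)
    (P : Sylow p X) (hK2 : ∀ K : Subgroup X, (P : Subgroup X) ≤ K → centralizer ((P : Subgroup X) : Set X) ≤ K →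
      ¬ 2 ∣ K.index ∧ ¬ q ∣ K.index) :
    ∃ χ : IrrCharacter X, χ ∈ principalBlock M X ∧ (χ : X → ℂ) ≠ (fun _ => 1) ∧
      ¬ 2 ∣ charDegree (χ : X → ℂ) ∧ ¬ q ∣ charDegree (χ : X → ℂ) := by
  classical
  set Y : Subgroup X := Subgroup.normalClosure ((P : Subgroup X) : Set X) with hY
  have hYn : Y.Normal := Subgroup.normalClosure_normal
  have hPY : (P : Subgroup X) ≤ Y := Subgroup.subset_normalClosure
  set C : Subgroup X := centralizer ((P : Subgroup X) : Set X) with hCdef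
  set K : Subgroup X := Y ⊔ C with hK
  have hYK : Y ≤ K := le_sup_left
  have hCK : C ≤ K := le_sup_right
  have hPK : (P : Subgroup X) ≤ K := hPY.trans hYK
  obtain ⟨hK2', hKq⟩ := hK2 K hPK hCK
  -- `K` is normal
  have hKn : K.Normal := by
    rw [← Subgroup.normalizer_eq_top_iff, eq_top_iff, ← Sylow.normalizer_sup_eq_top' P hPY]
    refine sup_le ?_ (hYK.trans Subgroup.le_normalizer)
    intro g hg
    have hgC : ∀ c ∈ C, g * c * g⁻¹ ∈ C := by
      intro c hc
      rw [hCdef, Subgroup.mem_centralizer_iff] at hc ⊢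
      intro x hx
      have h1 : g⁻¹ * x * g ∈ (P : Subgroup X) := by
        have := (Subgroup.mem_normalizer_iff.1 (inv_mem hg) x).1 hx
        rwa [inv_inv] at this
      have h2 := hc _ h1
      calc x * (g * c * g⁻¹) = g * ((g⁻¹ * x * g) * c) * g⁻¹ := by group
        _ = g * (c * (g⁻¹ * x * g)) * g⁻¹ := by rw [h2]
        _ = g * c * g⁻¹ * x := by group
    have hgi := inv_mem hg
    have hgC' : ∀ c ∈ C, g⁻¹ * c * g ∈ C := by
      intro c hc
      rw [hCdef, Subgroup.mem_centralizer_iff] at hc ⊢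
      intro x hx
      have h1 : g * x * g⁻¹ ∈ (P : Subgroup X) := (Subgroup.mem_normalizer_iff.1 hg x).1 hx
      have h2 := hc _ h1
      calc x * (g⁻¹ * c * g) = g⁻¹ * ((g * x * g⁻¹) * c) * g := by group
        _ = g⁻¹ * (c * (g * x * g⁻¹)) * g := by rw [h2]
        _ = g⁻¹ * c * g * x := by group
    rw [Subgroup.mem_normalizer_iff]
    intro k
    rw [hK, Subgroup.mem_sup_of_normal_left, Subgroup.mem_sup_of_normal_left]
    constructor
    · rintro ⟨y, hy, c, hc, rfl⟩
      exact ⟨g * y * g⁻¹, hYn.conj_mem y hy g, g * c * g⁻¹, hgC c hc, by group⟩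
    · rintro ⟨y, hy, c, hc, hyc⟩
      refine ⟨g⁻¹ * y * g, by simpa using hYn.conj_mem y hy g⁻¹, g⁻¹ * c * g, hgC' c hc, ?_⟩
      calc g⁻¹ * y * g * (g⁻¹ * c * g) = g⁻¹ * (y * c) * g := by group
        _ = k := by rw [hyc]; group
  -- the character of `Y`
  have hdY : p ∣ Nat.card Y := by
    refine (?_ : p ∣ Nat.card (P : Subgroup X)).trans (Subgroup.card_dvd_of_le hPY)
    exact P.dvd_card_of_dvd_card hd
  obtain ⟨θ, hθ0, hθ1, hθ2, hθ3⟩ := E_top hR hpq hM Y hdY (fun N hN hi => normalClosure_top P N hN hi)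
  -- in `K`
  let e : Y.subgroupOf K ≃* Y := Subgroup.subgroupOfEquivOfLe hYK
  have hN : (Y.subgroupOf K).Normal := inferInstance
  have hidx : ¬ p ∣ (Y.subgroupOf K).index := by
    intro h
    have h1 : (Y.subgroupOf K).index ∣ Y.index := ⟨K.index, (Subgroup.relIndex_mul_index hYK).symm⟩
    exact P.not_dvd_index ((h.trans h1).trans (Subgroup.index_dvd_of_le hPY))
  have hsup : (Y.subgroupOf K) ⊔ Subgroup.centralizer ((P.subtype hPK : Subgroup K) : Set K) = ⊤ := by
    rw [eq_top_iff]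
    rintro ⟨k, hk⟩ -
    have hk' := hk
    rw [hK, Subgroup.mem_sup_of_normal_left] at hk'
    obtain ⟨y, hy, c, hc, rfl⟩ := hk'
    have h1 : (⟨y, hYK hy⟩ : K) ∈ Y.subgroupOf K := by
      rw [Subgroup.mem_subgroupOf]; exact hy
    have h2 : (⟨c, hCK hc⟩ : K) ∈ Subgroup.centralizer ((P.subtype hPK : Subgroup K) : Set K) := by
      rw [Subgroup.mem_centralizer_iff]
      intro x hx
      have hx' : (x : X) ∈ (P : Subgroup X) := hx
      exact Subtype.ext (Subgroup.mem_centralizer_iff.1 hc _ hx')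
    have h3 : (⟨y * c, hk⟩ : K) = ⟨y, hYK hy⟩ * ⟨c, hCK hc⟩ := rfl
    rw [h3]
    exact mul_mem (Subgroup.mem_sup_left h1) (Subgroup.mem_sup_right h2)
  obtain ⟨ψ, ⟨hψ0, hψ1⟩, -⟩ := (S4551.result p M hM (Y.subgroupOf K) hidx (P.subtype hPK) hsup).2 _
    (Cfsg.Agent.H493.RatB.mem_principalBlock_comp e hθ0)
  have hval : ∀ y : Y, (ψ : K → ℂ) ⟨y, hYK y.2⟩ = (θ : Y → ℂ) y := by
    intro y
    have h1 := hψ1 ⟨⟨y, hYK y.2⟩, by rw [Subgroup.mem_subgroupOf]; exact y.2⟩
    exact h1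
  have hdeg : charDegree (ψ : K → ℂ) = charDegree (θ : Y → ℂ) := by
    apply charDegree_of_eq
    have h1 := hval 1
    have h2 : (ψ : K → ℂ) 1 = (θ : Y → ℂ) 1 := h1
    rw [h2, irr_one_eq_charDegree θ.2]
  have := Fintype.ofFinite K
  have := Fintype.ofFinite X
  obtain ⟨χ, hχ0, hχ1⟩ := Cfsg.Agent.H319.PQ.Red2.exists_over hM K hψ0
  refine ⟨χ, hχ0, ?_, ?_, ?_⟩
  · intro h
    apply hχ1
    have h1 : (fun n : K => (χ : X → ℂ) n) = ((H893.Sd.one K : IrrCharacter K) : K → ℂ) := by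
      funext n
      rw [h]
      rfl
    rw [h1]
    apply classInner_irr_ne (H893.Sd.one K).2 ψ.2
    intro h2
    apply hθ1
    funext y
    rw [← hval y, ← h2]
    rfl
  · exact Cfsg.Agent.H319.PQ.Red2.not_dvd_degree Nat.prime_two K hχ1 (by rwa [hdeg]) hK2'
  · exact Cfsg.Agent.H319.PQ.Red2.not_dvd_degree hq.out K hχ1 (by rwa [hdeg]) hKq

/-- **(E)** -/
theorem E {q : ℕ} [hq : Fact q.Prime] (hR : AllB.{u} q) {p : ℕ} [hp : Fact p.Prime] (hpq : p = 2 ∨ p = q)
    {M : Ideal AlgInt} (hM : IsPModular p M) (X : Type u) [Group X] [Finite X] (hC : Comm q X)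
    (hd : p ∣ Nat.card X) :
    ∃ χ : IrrCharacter X, χ ∈ principalBlock M X ∧ (χ : X → ℂ) ≠ (fun _ => 1) ∧
      ¬ 2 ∣ charDegree (χ : X → ℂ) ∧ ¬ q ∣ charDegree (χ : X → ℂ) := by
  obtain ⟨P, Q, hPQ⟩ := hC
  rcases hpq with rfl | rfl
  · refine E_core hR (Or.inl rfl) hM X hd P fun K h1 h2 => ?_
    have h3 : (Q : Subgroup X) ≤ K := by
      refine le_trans (fun y hy => ?_) h2
      rw [Subgroup.mem_centralizer_iff]
      intro x hx
      exact hPQ x hx y hy
    exact ⟨fun h => P.not_dvd_index (h.trans (Subgroup.index_dvd_of_le h1)),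
      fun h => Q.not_dvd_index (h.trans (Subgroup.index_dvd_of_le h3))⟩
  · refine E_core hR (Or.inr rfl) hM X hd Q fun K h1 h2 => ?_
    have h3 : (P : Subgroup X) ≤ K := by
      refine le_trans (fun x hx => ?_) h2
      rw [Subgroup.mem_centralizer_iff]
      intro y hy
      exact (hPQ x hx y hy).symm
    exact ⟨fun h => P.not_dvd_index (h.trans (Subgroup.index_dvd_of_le h3)),
      fun h => Q.not_dvd_index (h.trans (Subgroup.index_dvd_of_le h1))⟩

end Cfsg.Agent.H362.PB84.FEB
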