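import Cfsg.Agent.H362.PB84.Simple
import Cfsg.Agent.H362.PB84.Ext
import Cfsg.Agent.H381.PB.Both
import Cfsg.Agent.H595.AvgTwoG

/-!
# S4884, step 3b: conclusion (helper362)

`ExK` : the normal subgroup `K_p` (helper381); `step3b` : Step 3b of the reduction.
-/

set_option autoImplicit false

open Cfsg Subgroup
open scoped ComplexConjugate

namespace Cfsg.Agent.H362.PB84

open Cfsg.Agent.H706.PB Cfsg.Agent.Characters.Core Cfsg.Agent.OddOrderCharacters.IndRes Cfsg.Agent.H319.PQ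

universe u

/-- **the subgroup `K_p`** -/
def ExK : Prop :=
  ∀ (p : ℕ) [Fact p.Prime] (M : Ideal AlgInt), IsPModular p M → ∀ (G : Type u) [Group G] [Finite G] (S : Subgroup G)
    [S.Normal], Group.IsSolvable (G ⧸ S) → ∀ P : Sylow p S, ∃ K : Subgroup G, K.Normal ∧ S ≤ K ∧ ¬ p ∣ S.relIndex K ∧
      K ≤ S ⊔ centralizer (((P : Subgroup S).map S.subtype : Subgroup G) : Set G) ∧
      ∀ [Fintype K] (θ : IrrCharacter K) (χ : IrrCharacter G), θ ∈ principalBlock M K →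
        classInner (fun n : K => (χ : G → ℂ) n) (θ : K → ℂ) ≠ 0 → χ ∈ principalBlock M G

section

variable {G : Type u} [Group G] [Finite G]

/-- the trivial character lies under a character with `K` in the kernel -/
theorem inner_one_ne_zero (K : Subgroup G) [Fintype K] {χ : IrrCharacter G}
    (h : ∀ n ∈ K, (χ : G → ℂ) n = (χ : G → ℂ) 1) :
    classInner (fun n : K => (χ : G → ℂ) n) ((H893.Sd.one K : IrrCharacter K) : K → ℂ) ≠ 0 := by
  have h1 : (fun n : K => (χ : G → ℂ) n) = fun _ => (χ : G → ℂ) 1 := funext fun n => h n n.2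
  have h2 : (χ : G → ℂ) 1 ≠ 0 := Blocks.CliffordCentral.irr_one_ne_zero χ
  rw [h1]
  simp only [classInner]
  simp [H893.Sd.one, h2]

/-- the characters `θ_2`, `θ_q` agree on `K_2 ∩ K_q` if they are fixed by `σ` -/
theorem agree_of_gal (N K L : Subgroup G) [N.Normal] (hNK : N ≤ K) (hNL : N ≤ L) (hodd : ¬ 2 ∣ N.relIndex K)
    {θ : IrrCharacter N} {α : IrrCharacter K} {β : IrrCharacter L}
    (hα : ∀ s : N, (α : K → ℂ) ⟨s, hNK s.2⟩ = (θ : N → ℂ) s) (hβ : ∀ s : N, (β : L → ℂ) ⟨s, hNL s.2⟩ = (θ : N → ℂ) s)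
    (σ : ℂ ≃+* ℂ) (hσ : ∀ ζ : ℂ, ζ ^ N.relIndex (K ⊓ L) = 1 → σ ζ = ζ⁻¹)
    (hαr : ∀ k, σ ((α : K → ℂ) k) = (α : K → ℂ) k) (hβr : ∀ k, σ ((β : L → ℂ) k) = (β : L → ℂ) k)
    (x : G) (hx : x ∈ K) (hx' : x ∈ L) : (α : K → ℂ) ⟨x, hx⟩ = (β : L → ℂ) ⟨x, hx'⟩ := by
  classical
  set H : Subgroup G := K ⊓ L with hH
  have hNH : N ≤ H := le_inf hNK hNL
  have := Fintype.ofFinite H
  have := Fintype.ofFinite (N.subgroupOf H)
  let fK : H →* K := inclusion inf_le_left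
  let fL : H →* L := inclusion inf_le_right
  let e : N.subgroupOf H ≃* N := subgroupOfEquivOfLe hNH
  have hϑ : IsIrrCharacter (N.subgroupOf H) ((θ : N → ℂ) ∘ (e : N.subgroupOf H →* N)) := isIrr_comp _ e.surjective θ.2
  have hαH : IsIrrCharacter H ((α : K → ℂ) ∘ fK) := by
    refine H595.AvgTwo.irr_of_res (N.subgroupOf H) (isCharacter_comp fK (isIrr_isCharacter α.2)) ?_
    have h1 : res (N.subgroupOf H) ((α : K → ℂ) ∘ fK) = (θ : N → ℂ) ∘ (e : N.subgroupOf H →* N) := by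
      funext n
      exact hα (e n)
    rw [h1]
    exact hϑ
  have hβH : IsIrrCharacter H ((β : L → ℂ) ∘ fL) := by
    refine H595.AvgTwo.irr_of_res (N.subgroupOf H) (isCharacter_comp fL (isIrr_isCharacter β.2)) ?_
    have h1 : res (N.subgroupOf H) ((β : L → ℂ) ∘ fL) = (θ : N → ℂ) ∘ (e : N.subgroupOf H →* N) := by
      funext n
      exact hβ (e n)
    rw [h1]
    exact hϑ
  have hidx : Odd (N.subgroupOf H).index := by
    rw [← Nat.not_even_iff_odd, even_iff_two_dvd]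
    intro h
    apply hodd
    rw [← relIndex_mul_relIndex N H K hNH inf_le_left]
    exact h.mul_right _
  have h1 := eq_of_gal (N.subgroupOf H) hβH hαH hϑ (fun n => hβ (e n)) (fun n => hα (e n)) σ hσ hidx
    (fun g => hβr _) (fun g => hαr _)
  exact congrFun h1 ⟨x, ⟨hx, hx'⟩⟩

/-- complex conjugation -/
theorem conj_inv {n : ℕ} (hn : ¬ 2 ∣ n) (ζ : ℂ) (hζ : ζ ^ n = 1) : Complex.conjAe.toRingEquiv ζ = ζ⁻¹ := by
  have h2 : ‖ζ‖ = 1 := Complex.norm_eq_one_of_pow_eq_one hζ (fun h => hn (h ▸ dvd_zero 2))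
  show conj ζ = ζ⁻¹
  exact (Complex.inv_eq_conj h2).symm

/-- **the automorphism** `σ`: the identity on the `q`-power roots of unity, inversion on the roots of unity of order prime
to `q` -/
theorem exists_rho (q : ℕ) [hq : Fact q.Prime] {N : Subgroup G} {θ : IrrCharacter N}
    (hθ : ∀ m : ℕ, (∀ x : N, (∃ k, x ^ q ^ k = 1) → x ^ m = x) → (∀ x : N, ¬ q ∣ orderOf x → x ^ m = x⁻¹) →
      ∀ g : N, (θ : N → ℂ) (g ^ m) = (θ : N → ℂ) g) :
    ∃ σ : ℂ ≃+* ℂ, (∀ s, σ ((θ : N → ℂ) s) = (θ : N → ℂ) s) ∧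
      ∀ n : ℕ, n ∣ Nat.card G → ¬ q ∣ n → ∀ ζ : ℂ, ζ ^ n = 1 → σ ζ = ζ⁻¹ := by
  have hG : Nat.card G ≠ 0 := Nat.card_pos.ne'
  obtain ⟨a, b, hb, hab⟩ := Nat.exists_eq_pow_mul_and_not_dvd hG q hq.out.ne_one
  have hb0 : b ≠ 0 := by
    rintro rfl
    exact hG (by rw [hab, mul_zero])
  have hcop : Nat.Coprime (q ^ a) b := Nat.Coprime.pow_left a ((Nat.Prime.coprime_iff_not_dvd hq.out).2 hb)
  obtain ⟨m, hm1, hm2⟩ := Nat.chineseRemainder hcop 1 (b - 1)
  have hmb : b ∣ m + 1 := by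
    have h1 := hm2.add_right 1
    rw [Nat.sub_add_cancel (by omega)] at h1
    exact (Nat.modEq_zero_iff_dvd).1 (h1.trans (by rw [Nat.ModEq, Nat.mod_self, Nat.zero_mod]))
  have hmc : m.Coprime (Nat.card G) := by
    rw [hab]
    refine Nat.Coprime.mul_right ?_ ?_
    · rw [Nat.coprime_iff_gcd_eq_one, hm1.gcd_eq]
      exact Nat.gcd_one_left _
    · rw [Nat.coprime_iff_gcd_eq_one]
      have h1 : Nat.gcd m b ∣ m := Nat.gcd_dvd_left _ _
      have h2 : Nat.gcd m b ∣ m + 1 := (Nat.gcd_dvd_right _ _).trans hmb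
      exact Nat.dvd_one.1 ((Nat.dvd_add_right h1).1 h2)
  obtain ⟨σ, hσ⟩ := Characters.GaloisBasic.exists_ringEquiv_pow hG hmc
  refine ⟨σ, ?_, ?_⟩
  · intro s
    have hdv : Nat.card N ∣ Nat.card G := card_subgroup_dvd_card N
    have h1 : σ ((θ : N → ℂ) s) = (θ : N → ℂ) (s ^ m) := by
      refine Characters.GaloisBasic.map_apply_card σ (fun z hz => hσ z ?_) (isIrr_isCharacter θ.2) s
      obtain ⟨c, hc⟩ := hdv
      rw [hc, pow_mul, hz, one_pow]
    rw [h1]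
    refine hθ m ?_ ?_ s
    · rintro x ⟨k, hk⟩
      -- the order of `x` divides `q ^ a`
      have h2 : orderOf x ∣ q ^ k := orderOf_dvd_of_pow_eq_one hk
      have h3 : orderOf x ∣ q ^ a * b := by
        rw [← hab]
        exact (orderOf_dvd_natCard x).trans hdv
      have h4 : orderOf x ∣ q ^ a := by
        refine (Nat.Coprime.dvd_of_dvd_mul_right ?_ h3)
        exact Nat.Coprime.coprime_dvd_left h2 (Nat.Coprime.pow_left k ((Nat.Prime.coprime_iff_not_dvd hq.out).2 hb))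
      have h5 : x ^ m = x ^ 1 := pow_eq_pow_iff_modEq.2 (hm1.of_dvd h4)
      rw [h5, pow_one]
    · intro x hx
      have h3 : orderOf x ∣ q ^ a * b := by
        rw [← hab]
        exact (orderOf_dvd_natCard x).trans hdv
      have h4 : orderOf x ∣ b := by
        refine (Nat.Coprime.dvd_of_dvd_mul_left ?_ h3)
        exact Nat.Coprime.pow_right a ((Nat.Prime.coprime_iff_not_dvd hq.out).2 hx).symm
      rw [eq_inv_iff_mul_eq_one, ← pow_succ]
      exact orderOf_dvd_iff_pow_eq_one.1 (h4.trans hmb)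
  · intro n hn hqn ζ hζ
    have h3 : n ∣ b := by
      rw [hab] at hn
      refine (Nat.Coprime.dvd_of_dvd_mul_left ?_ hn)
      exact Nat.Coprime.pow_right a ((Nat.Prime.coprime_iff_not_dvd hq.out).2 hqn).symm
    have h4 : ζ ^ Nat.card G = 1 := by
      obtain ⟨c, hc⟩ := hn
      rw [hc, pow_mul, hζ, one_pow]
    rw [hσ ζ h4]
    have h5 : ζ ^ (m + 1) = 1 := by
      obtain ⟨c, hc⟩ := h3.trans hmb
      rw [hc, pow_mul, hζ, one_pow]
    rw [pow_succ] at h5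
    exact eq_inv_of_mul_eq_one_left h5

/-- the inflated characters over `K_p` -/
theorem charDegree_ext {N K : Subgroup G} (hNK : N ≤ K) {θ : IrrCharacter N} {α : IrrCharacter K}
    (hα : ∀ s : N, (α : K → ℂ) ⟨s, hNK s.2⟩ = (θ : N → ℂ) s) :
    charDegree (α : K → ℂ) = charDegree (θ : N → ℂ) := by
  rw [Blocks.Basic.charDegree_def, Blocks.Basic.charDegree_def]
  have h1 := hα 1
  have h2 : (⟨((1 : N) : G), hNK (1 : N).2⟩ : K) = 1 := rfl
  rw [h2] at h1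
  rw [h1]

end

/-- **Step 3b** -/
theorem step3b (hK : ExK.{u}) (hOut : ∀ (S : Type u) [Group S] [Finite S] [IsSimpleGroup S], Group.IsSolvable (Out S)) :
    Step3b.{u} := by
  intro q _ hq hR M2 Mq hM2 hMq G _ _ hH hmin N _ hN1 huniq hcent hN2 hNq
  classical
  have h2p : Fact (Nat.Prime 2) := ⟨Nat.prime_two⟩
  have hp1 : M2.IsPrime := hM2.2.1.isPrime
  have hr1 : Mq.IsPrime := hMq.2.1.isPrime
  obtain ⟨P⟩ : Nonempty (Sylow 2 N) := inferInstance
  obtain ⟨Q⟩ : Nonempty (Sylow q N) := inferInstance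
  -- `N` is simple
  have hA1 : (N ⊔ centralizer (((P : Subgroup N).map N.subtype : Subgroup G) : Set G)).Normal :=
    normal_sup_centralizer N P
  have hA2 : (N ⊔ centralizer (((Q : Subgroup N).map N.subtype : Subgroup G) : Set G)).Normal :=
    normal_sup_centralizer N Q
  have htop := sup_eq_top hR hH _ _ (fun χ h => mem_of_sup_centralizer hM2 N P h)
    (fun χ h => mem_of_sup_centralizer hMq N Q h)
  have hS : IsSimpleGroup N := isSimpleGroup_of N hN1 huniq hN2 hNq P Q htop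
  have hna : ¬ IsMulCommutative N := by
    intro h
    apply hN1
    rw [eq_bot_iff, ← hcent]
    intro x hx
    rw [mem_centralizer_iff]
    intro y hy
    exact congrArg Subtype.val (h.1.comm (⟨y, hy⟩ : N) ⟨x, hx⟩)
  have hrow := hR N hna hNq
  -- the character of `N`
  obtain ⟨θ, hθ2, hθq, hθ1, hd2, hdq, hcase⟩ : ∃ θ : IrrCharacter N, θ ∈ principalBlock M2 N ∧
      θ ∈ principalBlock Mq N ∧ (θ : N → ℂ) ≠ (fun _ => (1 : ℂ)) ∧ ¬ 2 ∣ charDegree (θ : N → ℂ) ∧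
      ¬ q ∣ charDegree (θ : N → ℂ) ∧ (((∃ σ : ℂ ≃+* ℂ, (∀ s, σ ((θ : N → ℂ) s) = (θ : N → ℂ) s) ∧
        ∀ n : ℕ, n ∣ Nat.card G → ¬ 2 ∣ n → ¬ q ∣ n → ∀ ζ : ℂ, ζ ^ n = 1 → σ ζ = ζ⁻¹)) ∨ NoOut 2 N ∨ NoOut q N) := by
    rcases hrow with (h | ⟨h, h'⟩) | h
    · obtain ⟨θ, h1, h2, h3, h4, h5⟩ := h Mq hMq
      refine ⟨θ, (S4483.result M2 hM2).1 θ h5 ?_, h1, h2, h3, h4, Or.inl ⟨Complex.conjAe.toRingEquiv, fun s =>
        Complex.conj_eq_iff_im.2 (h5 s), fun n _ hn2 _ ζ hζ => conj_inv hn2 ζ hζ⟩⟩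
      rwa [← Nat.not_even_iff_odd, even_iff_two_dvd]
    · obtain ⟨θ, h1, h2, h3, h4, h5⟩ := h M2 Mq hM2 hMq
      exact ⟨θ, h1, h2, h3, h4, h5, Or.inr h'⟩
    · obtain ⟨θ, h1, h2, h3, h4, h5, h6⟩ := h M2 Mq hM2 hMq
      obtain ⟨σ, hσ1, hσ2⟩ := exists_rho (G := G) q h6
      exact ⟨θ, h1, h2, h3, h4, h5, Or.inl ⟨σ, hσ1, fun n hn _ hqn ζ hζ => hσ2 n hn hqn ζ hζ⟩⟩
  -- the subgroups `K_2`, `K_q`
  have hsol := isSolvable_quotient N hcent (hOut N)
  obtain ⟨K, hKn, hNK, hKi, hKC, hKb⟩ := hK 2 M2 hM2 G N hsol P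
  obtain ⟨L, hLn, hNL, hLi, hLC, hLb⟩ := hK q Mq hMq G N hsol Q
  have := Fintype.ofFinite K
  have := Fintype.ofFinite L
  have hKL : K ⊔ L = ⊤ := sup_eq_top hR hH K L
    (fun χ h => hKb _ χ Blocks.PrincipalSection.one_mem_principalBlock (inner_one_ne_zero K h))
    (fun χ h => hLb _ χ Blocks.PrincipalSection.one_mem_principalBlock (inner_one_ne_zero L h))
  -- the extensions
  obtain ⟨α, hα1, hα, hασ⟩ := exists_ext hM2 N K hNK hKi P hKC hθ2
  obtain ⟨β, hβ1, hβ, hβσ⟩ := exists_ext hMq N L hNL hLi Q hLC hθq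
  have hagree : ∀ x (hx : x ∈ K) (hx' : x ∈ L), (α : K → ℂ) ⟨x, hx⟩ = (β : L → ℂ) ⟨x, hx'⟩ := by
    rcases hcase with h | h | h
    · obtain ⟨σ, hσ, hζ⟩ := h
      intro x hx hx'
      have hNH : N ≤ K ⊓ L := le_inf hNK hNL
      refine agree_of_gal N K L hNK hNL hKi hα hβ σ (hζ _ ?_ ?_ ?_) (hασ _ hσ) (hβσ _ hσ) x hx hx'
      · exact (N.relIndex_dvd_card (K ⊓ L)).trans (card_subgroup_dvd_card _)
      · intro h2
        apply hKi
        rw [← relIndex_mul_relIndex N (K ⊓ L) K hNH inf_le_left]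
        exact h2.mul_right _
      · intro h2
        apply hLi
        rw [← relIndex_mul_relIndex N (K ⊓ L) L hNH inf_le_right]
        exact h2.mul_right _
    · intro x hx hx'
      have hxN := le_of_noOut N K hcent hNK hKi P hKC h hx
      rw [hα ⟨x, hxN⟩, hβ ⟨x, hxN⟩]
    · intro x hx hx'
      have hxN := le_of_noOut N L hcent hNL hLi Q hLC h hx'
      rw [hα ⟨x, hxN⟩, hβ ⟨x, hxN⟩]
  obtain ⟨χ, hχα, hχβ⟩ := H381.PB.exists_over_both K L hKL α β hagree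
  have hχ2 : χ ∈ principalBlock M2 G := hKb α χ hα1 hχα
  have hχq : χ ∈ principalBlock Mq G := hLb β χ hβ1 hχβ
  -- the degree
  have hKq : ¬ q ∣ K.index := by
    have h1 : K.index = K.relIndex L := by
      rw [← relIndex_top_right, ← hKL, sup_comm, relIndex_sup_right]
    rw [h1]
    exact fun h => hLi (h.trans (relIndex_dvd_of_le_left L hNK))
  have hL2 : ¬ 2 ∣ L.index := by
    have h1 : L.index = L.relIndex K := by
      rw [← relIndex_top_right, ← hKL, relIndex_sup_right]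
    rw [h1]
    exact fun h => hKi (h.trans (relIndex_dvd_of_le_left K hNL))
  have hdχq : ¬ q ∣ charDegree (χ : G → ℂ) := by
    refine Red2.not_dvd_degree Fact.out K hχα ?_ hKq
    rwa [charDegree_ext hNK hα]
  have hdχ2 : ¬ 2 ∣ charDegree (χ : G → ℂ) := by
    refine Red2.not_dvd_degree Nat.prime_two L hχβ ?_ hL2
    rwa [charDegree_ext hNL hβ]
  have hχ1 := hH χ hχ2 hχq hdχ2 hdχq
  apply hθ1
  have h1 : (fun n : K => (χ : G → ℂ) n) = ((H893.Sd.one K : IrrCharacter K) : K → ℂ) := by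
    rw [hχ1]
    rfl
  have h2 : ((H893.Sd.one K : IrrCharacter K) : K → ℂ) = (α : K → ℂ) := by
    by_contra hne
    apply hχα
    rw [h1]
    exact classInner_irr_ne (H893.Sd.one K).2 α.2 hne
  funext s
  rw [← hα s, ← h2]
  rfl

end Cfsg.Agent.H362.PB84
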