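import Cfsg.Agent.H362.PB84.Asm
import Cfsg.Agent.H362.PB84.RhoDef

/-!
# S4884, the reduction: assembly (helper362)

`Step3b` : the last step (a unique minimal normal subgroup `N`, `C_G(N) = 1`, `2 q ∣ |N|`).
`reduction_of` : `ReductionP` from (C3), (C5), (E) and `Step3b`.
-/

set_option autoImplicit false

open Cfsg Subgroup

namespace Cfsg.Agent.H362.PB84

open Cfsg.Agent.H706.PB

universe u

/-- **Step 3b** -/
def Step3b : Prop :=
  ∀ (q : ℕ) [Fact q.Prime], q ≠ 2 → AllRowsP.{u} q → ∀ (M2 Mq : Ideal AlgInt), IsPModular 2 M2 → IsPModular q Mq →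
    ∀ (G : Type u) [Group G] [Finite G], HypH q M2 Mq G → (∀ K : Subgroup G, [K.Normal] → K ≠ ⊥ → Comm q (G ⧸ K)) →
      ∀ N : Subgroup G, [N.Normal] → N ≠ ⊥ → (∀ K : Subgroup G, [K.Normal] → K ≠ ⊥ → N ≤ K) →
        centralizer (N : Set G) = ⊥ → 2 ∣ Nat.card N → q ∣ Nat.card N → False

/-- (E) -/
def E : Prop :=
  ∀ (q : ℕ) [Fact q.Prime], q ≠ 2 → AllRowsP.{u} q → ∀ (p : ℕ) [Fact p.Prime], (p = 2 ∨ p = q) → ∀ (M : Ideal AlgInt),
    IsPModular p M → ∀ (X : Type u) [Group X] [Finite X], Comm q X → p ∣ Nat.card X →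
      ∃ χ : IrrCharacter X, χ ∈ principalBlock M X ∧ (χ : X → ℂ) ≠ (fun _ => (1 : ℂ)) ∧
        ¬ 2 ∣ charDegree (χ : X → ℂ) ∧ ¬ q ∣ charDegree (χ : X → ℂ)

theorem exists_minimal {G : Type u} [Group G] [Finite G] [Nontrivial G] :
    ∃ N : Subgroup G, N.Normal ∧ N ≠ ⊥ ∧ ∀ K : Subgroup G, K.Normal → K ≤ N → K ≠ ⊥ → K = N := by
  classical
  have h : ∃ n : ℕ, ∃ N : Subgroup G, N.Normal ∧ N ≠ ⊥ ∧ Nat.card N = n :=
    ⟨_, ⊤, inferInstance, top_ne_bot, rfl⟩
  obtain ⟨N, h1, h2, h3⟩ := Nat.find_spec h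
  refine ⟨N, h1, h2, fun K hK hKN hK1 => ?_⟩
  have h4 := Nat.find_min' h ⟨K, hK, hK1, rfl⟩
  rw [← h3] at h4
  exact Subgroup.eq_of_le_of_card_ge hKN h4

/-- **the reduction** for the rows `RowP` -/
def ReductionP : Prop :=
  ∀ (q : ℕ) [Fact q.Prime], q ≠ 2 → AllRowsP.{u} q → ∀ (M2 Mq : Ideal AlgInt), IsPModular 2 M2 → IsPModular q Mq →
    ∀ (G : Type u) [Group G] [Finite G], HypH q M2 Mq G → Comm q G

theorem ReductionP.reduction (h : ReductionP.{u}) : Reduction.{u} :=
  fun q _ hq hR M2 Mq hM2 hMq G _ _ hH =>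
    h q hq (fun S _ _ _ h1 h2 => Or.inl (hR S h1 h2)) M2 Mq hM2 hMq G hH

/-- **The reduction from its steps** -/
theorem reduction_of (hC3 : C3.{u}) (hC5 : C5.{u}) (hE : E.{u}) (h3b : Step3b.{u}) : ReductionP.{u} := by
  intro q _ hq hR M2 Mq hM2 hMq
  have h2p : Fact (Nat.Prime 2) := ⟨Nat.prime_two⟩
  have hp1 : M2.IsPrime := hM2.2.1.isPrime
  have hr1 : Mq.IsPrime := hMq.2.1.isPrime
  have key : ∀ n : ℕ, ∀ (G : Type u) [Group G] [Finite G], Nat.card G = n → HypH q M2 Mq G → Comm q G := by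
    intro n
    induction n using Nat.strong_induction_on with
    | _ n ih =>
    intro G _ _ hn hH
    by_contra hno
    have hH' : HypP 2 q M2 Mq G := hH
    -- quotients
    have hmin : ∀ K : Subgroup G, [K.Normal] → K ≠ ⊥ → Comm q (G ⧸ K) := by
      intro K _ hK
      have h1 : HypH q M2 Mq (G ⧸ K) := hH'.quotient K
      refine ih (Nat.card (G ⧸ K)) ?_ (G ⧸ K) rfl h1
      have h2 : Nat.card (G ⧸ K) * Nat.card K = Nat.card G := (Subgroup.card_eq_card_quotient_mul_card_subgroup K).symm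
      have h3 : 1 < Nat.card K := by
        rw [Subgroup.one_lt_card_iff_ne_bot]
        exact hK
      have h4 : 0 < Nat.card (G ⧸ K) := Nat.card_pos
      rw [← hn, ← h2]
      exact (Nat.lt_mul_iff_one_lt_right h4).2 h3
    -- the group is nontrivial
    have hnt : Nontrivial G := by
      by_contra hcon
      rw [not_nontrivial_iff_subsingleton] at hcon
      obtain ⟨P⟩ : Nonempty (Sylow 2 G) := inferInstance
      obtain ⟨Q⟩ : Nonempty (Sylow q G) := inferInstance
      exact hno ⟨P, Q, fun x _ y _ => Subsingleton.elim _ _⟩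
    -- both primes divide the order of a normal subgroup
    have hA : ∀ K : Subgroup G, [K.Normal] → K ≠ ⊥ → 2 ∣ Nat.card K ∧ q ∣ Nat.card K := by
      intro K _ hK
      constructor
      · by_contra h2
        refine hno (CommP.symm (step_A hC5 (p := q) (r := 2) hq hMq hM2 ?_ hH'.symm ?_ K hK h2))
        · intro X _ _ hX h2X
          obtain ⟨χ, h1, h2, h3, h4⟩ := hE q hq hR 2 (Or.inl rfl) M2 hM2 X hX.symm h2X
          exact ⟨χ, h1, h2, h4, h3⟩
        · intro L _ hL
          exact CommP.symm (hmin L hL)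
      · by_contra h2
        refine hno (step_A hC5 (p := 2) (r := q) (Ne.symm hq) hM2 hMq ?_ hH' ?_ K hK h2)
        · intro X _ _ hX h2X
          exact hE q hq hR q (Or.inr rfl) Mq hMq X hX h2X
        · intro L _ hL
          exact hmin L hL
    -- the minimal normal subgroup
    obtain ⟨N, hNn, hN1, hNmin⟩ := exists_minimal (G := G)
    have huniq : ∀ K : Subgroup G, [K.Normal] → K ≠ ⊥ → N ≤ K := by
      intro K _ hK
      by_contra hNK
      have h1 : N ⊓ K = ⊥ := by
        by_contra h2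
        have h3 := hNmin (N ⊓ K) inferInstance inf_le_left h2
        exact hNK (h3 ▸ inf_le_right)
      exact hno (hC3 2 q (Ne.symm hq) G N K h1 (hmin N hN1) (hmin K hK))
    obtain ⟨hN2, hNq⟩ := hA N hN1
    have hcent : centralizer (N : Set G) = ⊥ := by
      by_contra hC
      have hNC : N ≤ centralizer (N : Set G) := huniq _ hC
      obtain ⟨P⟩ : Nonempty (Sylow 2 N) := inferInstance
      have hcomm : ∀ a b : N, a * b = b * a := by
        intro a b
        apply Subtype.ext
        exact (mem_centralizer_iff.1 (hNC b.2) a a.2)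
      have hPn : (P : Subgroup N).Normal := by
        refine ⟨fun x hx g => ?_⟩
        rw [hcomm g x, mul_assoc, mul_inv_cancel, mul_one]
        exact hx
      have hPc : (P : Subgroup N).Characteristic := P.characteristic_of_normal hPn
      have hP' : ((P : Subgroup N).map N.subtype).Normal := inferInstance
      have hP1 : (P : Subgroup N).map N.subtype ≠ ⊥ := by
        intro h
        rw [(P : Subgroup N).map_eq_bot_iff_of_injective N.subtype_injective] at h
        exact P.ne_bot_of_dvd_card hN2 h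
      have h1 := huniq _ hP1
      have h2 : IsPGroup 2 N := by
        intro x
        obtain ⟨y, hy, hyx⟩ := h1 x.2
        obtain ⟨k, hk⟩ := P.2 ⟨y, hy⟩
        refine ⟨k, ?_⟩
        have h3 : y = x := Subtype.ext hyx
        rw [← h3]
        exact congrArg Subtype.val hk
      obtain ⟨k, hk⟩ := IsPGroup.iff_card.1 h2
      rw [hk] at hNq
      have h3 := (Nat.prime_dvd_prime_iff_eq Fact.out Nat.prime_two).1 ((Fact.out : q.Prime).dvd_of_dvd_pow hNq)
      exact hq h3
    exact h3b q hq hR M2 Mq hM2 hMq G hH hmin N hN1 huniq hcent hN2 hNq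
  intro G _ _ hH
  exact key _ G rfl hH

end Cfsg.Agent.H362.PB84
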