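import Cfsg.Agent.H362.PB84.Main

/-!
# S4884: the rows with the third alternative, the dispatch and the end (copy of the second half of `H706/PB/Defs.lean`)

`RowsP q` : all fields of helper706's `Rows q`, each one in the form `RowForP` (`Row`, `RowReal` or `RowRho`).
-/

set_option autoImplicit false

open Subgroup

namespace Cfsg.Agent.H362.PB84

open Cfsg Cfsg.Agent.Blocks Cfsg.Agent.Blocks.Blau Cfsg.Agent.H145.BR Cfsg.Agent.Characters.Core Cfsg.Agent.H706.PB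

universe u v

/-- **the rows of S4884** for the odd prime `q`. `lieq`, `lie2`: own characteristic (the characteristic is `q` or `2`);
the other Lie families: the characteristic is neither `2` nor `q` (cross characteristic, real characters). -/
structure RowsP (q : ℕ) : Prop where
  alt : RowForP q (fun X _ => IsAlternating X)
  spor : RowForP q (fun X _ => IsSporadicGroup X)
  tits : RowForP q (fun X _ => Lie.IsoTits X)
  lieq : RowForP q (fun X _ => IsLieTypeChar q X)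
  lie2 : RowForP q (fun X _ => IsLieTypeChar 2 X)
  psl : RowForP q (fun X _ => ∃ (F : Type) (_ : Field F) (_ : Fintype F) (n : ℕ), (q : F) ≠ 0 ∧ (2 : F) ≠ 0 ∧ 2 ≤ n ∧
    Nonempty (X ≃* Matrix.ProjectiveSpecialLinearGroup (Fin n) F))
  psp : RowForP q (fun X _ => ∃ (F : Type) (_ : Field F) (_ : Fintype F) (m : ℕ), (q : F) ≠ 0 ∧ (2 : F) ≠ 0 ∧ 2 ≤ m ∧
    Nonempty (X ≃* PSp m F))
  psu : RowForP q (fun X _ => ∃ (F : Type) (_ : Field F) (_ : Fintype F) (n r : ℕ), (q : F) ≠ 0 ∧ (2 : F) ≠ 0 ∧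
    Fintype.card F = r ^ 2 ∧ 3 ≤ n ∧ Nonempty (X ≃* PSU n F r))
  oodd : RowForP q (fun X _ => ∃ (F : Type) (_ : Field F) (_ : Fintype F) (m : ℕ), (q : F) ≠ 0 ∧ (2 : F) ≠ 0 ∧
    3 ≤ m ∧ Nonempty (X ≃* POmega F (quadFormOdd m F)))
  oplus : RowForP q (fun X _ => ∃ (F : Type) (_ : Field F) (_ : Fintype F) (m : ℕ), (q : F) ≠ 0 ∧ (2 : F) ≠ 0 ∧
    4 ≤ m ∧ Nonempty (X ≃* POmega F (quadFormPlus m F)))
  ominus : RowForP q (fun X _ => ∃ (F : Type) (_ : Field F) (_ : Fintype F) (m : ℕ) (a b : F), (q : F) ≠ 0 ∧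
    (2 : F) ≠ 0 ∧ 4 ≤ m ∧ (∀ z₁ z₂ : F, z₁ ^ 2 + a * z₁ * z₂ + b * z₂ ^ 2 = 0 → z₁ = 0 ∧ z₂ = 0) ∧
    Nonempty (X ≃* POmega F (quadFormMinus (m - 1) F a b)))
  g2 : RowForP q (fun X _ => ∃ (F : Type) (_ : Field F) (_ : Fintype F), (q : F) ≠ 0 ∧ (2 : F) ≠ 0 ∧
    Nonempty (X ≃* Lie.chevG2.group F))
  f4 : RowForP q (fun X _ => ∃ (F : Type) (_ : Field F) (_ : Fintype F), (q : F) ≠ 0 ∧ (2 : F) ≠ 0 ∧
    Nonempty (X ≃* Lie.chevF4.group F))
  e6 : RowForP q (fun X _ => ∃ (F : Type) (_ : Field F) (_ : Fintype F), (q : F) ≠ 0 ∧ (2 : F) ≠ 0 ∧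
    Nonempty (X ≃* Lie.chevE6.group F))
  e7 : RowForP q (fun X _ => ∃ (F : Type) (_ : Field F) (_ : Fintype F), (q : F) ≠ 0 ∧ (2 : F) ≠ 0 ∧
    Nonempty (X ≃* Lie.chevE7.group F))
  e8 : RowForP q (fun X _ => ∃ (F : Type) (_ : Field F) (_ : Fintype F), (q : F) ≠ 0 ∧ (2 : F) ≠ 0 ∧
    Nonempty (X ≃* Lie.chevE8.group F))
  te6 : RowForP q (fun X _ => ∃ (K : Type) (_ : Field K) (_ : Fintype K) (r : ℕ), (q : K) ≠ 0 ∧ (2 : K) ≠ 0 ∧
    IsPrimePow r ∧ Fintype.card K = r ^ 2 ∧ Nonempty (X ≃* Lie.twistedE6 K r))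
  td4 : RowForP q (fun X _ => ∃ (K : Type) (_ : Field K) (_ : Fintype K) (r : ℕ), (q : K) ≠ 0 ∧ (2 : K) ≠ 0 ∧
    IsPrimePow r ∧ Fintype.card K = r ^ 3 ∧ Nonempty (X ≃* Lie.twistedD4 K r))
  ree : q ≠ 3 → RowForP q (fun X _ => Lie.IsoRee X)

section dispatch

variable {q : ℕ} [hp : Fact q.Prime] {X : Type} [Group X] [Finite X] [IsSimpleGroup X]

/-- three cases for the characteristic -/
theorem RowsP.lie (R : RowsP q) (hna : ¬ IsMulCommutative X) (hd : q ∣ Nat.card X)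
    {F : Type} [Field F] (C : ℕ → Prop) (hC : ∀ p : ℕ, CharP F p → C p) (hL : ∀ p : ℕ, C p → IsLieTypeChar p X)
    (h : (q : F) ≠ 0 → (2 : F) ≠ 0 → RowP q X) : RowP q X := by
  by_cases hq : (q : F) = 0
  · exact R.lieq X hna hd (hL q (hC q (charP_of hq)))
  by_cases h2 : (2 : F) = 0
  · exact R.lie2 X hna hd (hL 2 (hC 2 (two_zero h2)))
  · exact h hq h2

theorem RowsP.rpsl (R : RowsP q) (hna : ¬ IsMulCommutative X) (hd : q ∣ Nat.card X) (h : IsPSL X) : RowP q X := by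
  obtain ⟨F, iF, iN, n, hn, hn2, ⟨e⟩⟩ := h
  exact R.lie hna hd (F := F) (fun p => IsPSLChar p X) (fun p hp => ⟨F, iF, iN, hp, n, hn, hn2, ⟨e⟩⟩)
    (fun p h => Or.inl h) fun hq h2 => R.psl X hna hd ⟨F, iF, iN, n, hq, h2, hn, ⟨e⟩⟩

theorem RowsP.rpsp (R : RowsP q) (hna : ¬ IsMulCommutative X) (hd : q ∣ Nat.card X) (h : IsPSp X) : RowP q X := by
  obtain ⟨F, iF, iN, n, hn, hn2, ⟨e⟩⟩ := h
  exact R.lie hna hd (F := F) (fun p => IsPSpChar p X) (fun p hp => ⟨F, iF, iN, hp, n, hn, hn2, ⟨e⟩⟩)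
    (fun p h => Or.inr (Or.inl h)) fun hq h2 => R.psp X hna hd ⟨F, iF, iN, n, hq, h2, hn, ⟨e⟩⟩

theorem RowsP.rpsu (R : RowsP q) (hna : ¬ IsMulCommutative X) (hd : q ∣ Nat.card X) (h : IsPSU X) : RowP q X := by
  obtain ⟨F, iF, iN, n, r, hr, hn, hn2, ⟨e⟩⟩ := h
  exact R.lie hna hd (F := F) (fun p => IsPSUChar p X) (fun p hp => ⟨F, iF, iN, hp, n, r, hr, hn, hn2, ⟨e⟩⟩)
    (fun p h => Or.inr (Or.inr (Or.inl h))) fun hq h2 => R.psu X hna hd ⟨F, iF, iN, n, r, hq, h2, hr, hn, ⟨e⟩⟩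

theorem RowsP.rpodd (R : RowsP q) (hna : ¬ IsMulCommutative X) (hd : q ∣ Nat.card X) (h : IsPOmegaOdd X) :
    RowP q X := by
  obtain ⟨F, iF, iN, m, hm, hodd, ⟨e⟩⟩ := h
  exact R.lie hna hd (F := F) (fun p => IsPOmegaOddChar p X) (fun p hp => ⟨F, iF, iN, hp, m, hm, hodd, ⟨e⟩⟩)
    (fun p h => Or.inr (Or.inr (Or.inr (Or.inl h)))) fun hq h2 => R.oodd X hna hd ⟨F, iF, iN, m, hq, h2, hm, ⟨e⟩⟩

theorem RowsP.rpplus (R : RowsP q) (hna : ¬ IsMulCommutative X) (hd : q ∣ Nat.card X) (h : IsPOmegaPlus X) :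
    RowP q X := by
  obtain ⟨F, iF, iN, m, hm, ⟨e⟩⟩ := h
  exact R.lie hna hd (F := F) (fun p => IsPOmegaPlusChar p X) (fun p hp => ⟨F, iF, iN, hp, m, hm, ⟨e⟩⟩)
    (fun p h => Or.inr (Or.inr (Or.inr (Or.inr (Or.inl h)))))
    fun hq h2 => R.oplus X hna hd ⟨F, iF, iN, m, hq, h2, hm, ⟨e⟩⟩

theorem RowsP.rpminus (R : RowsP q) (hna : ¬ IsMulCommutative X) (hd : q ∣ Nat.card X) (h : IsPOmegaMinus X) :
    RowP q X := by
  obtain ⟨F, iF, iN, m, a, b, hm, hab, ⟨e⟩⟩ := h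
  exact R.lie hna hd (F := F) (fun p => IsPOmegaMinusChar p X) (fun p hp => ⟨F, iF, iN, hp, m, a, b, hm, hab, ⟨e⟩⟩)
    (fun p h => Or.inr (Or.inr (Or.inr (Or.inr (Or.inr (Or.inl h))))))
    fun hq h2 => R.ominus X hna hd ⟨F, iF, iN, m, a, b, hq, h2, hm, hab, ⟨e⟩⟩

theorem RowsP.rexc (R : RowsP q) (hna : ¬ IsMulCommutative X) (hd : q ∣ Nat.card X)
    (h : IsExceptionalLieType X) : RowP q X := by
  rcases h with h | h | h | h | h | h | h | h | h | h | h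
  · obtain ⟨F, iF, iN, h3, ⟨e⟩⟩ := h
    exact R.lie hna hd (F := F) (fun p => IsExceptionalChevChar p X)
      (fun p hp => ⟨F, iF, iN, hp, Or.inl ⟨h3, ⟨e⟩⟩⟩) (fun p h => lie_exc h)
      fun hq h2 => R.g2 X hna hd ⟨F, iF, iN, hq, h2, ⟨e⟩⟩
  · obtain ⟨F, iF, iN, ⟨e⟩⟩ := h
    exact R.lie hna hd (F := F) (fun p => IsExceptionalChevChar p X)
      (fun p hp => ⟨F, iF, iN, hp, Or.inr (Or.inl ⟨e⟩)⟩) (fun p h => lie_exc h)
      fun hq h2 => R.f4 X hna hd ⟨F, iF, iN, hq, h2, ⟨e⟩⟩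
  · obtain ⟨F, iF, iN, ⟨e⟩⟩ := h
    exact R.lie hna hd (F := F) (fun p => IsExceptionalChevChar p X)
      (fun p hp => ⟨F, iF, iN, hp, Or.inr (Or.inr (Or.inl ⟨e⟩))⟩) (fun p h => lie_exc h)
      fun hq h2 => R.e6 X hna hd ⟨F, iF, iN, hq, h2, ⟨e⟩⟩
  · obtain ⟨F, iF, iN, ⟨e⟩⟩ := h
    exact R.lie hna hd (F := F) (fun p => IsExceptionalChevChar p X)
      (fun p hp => ⟨F, iF, iN, hp, Or.inr (Or.inr (Or.inr (Or.inl ⟨e⟩)))⟩) (fun p h => lie_exc h)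
      fun hq h2 => R.e7 X hna hd ⟨F, iF, iN, hq, h2, ⟨e⟩⟩
  · obtain ⟨F, iF, iN, ⟨e⟩⟩ := h
    exact R.lie hna hd (F := F) (fun p => IsExceptionalChevChar p X)
      (fun p hp => ⟨F, iF, iN, hp, Or.inr (Or.inr (Or.inr (Or.inr ⟨e⟩)))⟩) (fun p h => lie_exc h)
      fun hq h2 => R.e8 X hna hd ⟨F, iF, iN, hq, h2, ⟨e⟩⟩
  · obtain ⟨K, iF, iN, r, hr, hK, ⟨e⟩⟩ := h
    exact R.lie hna hd (F := K) (fun p => IsTwistedE6D4Char p X)
      (fun p hp => ⟨K, iF, iN, hp, r, hr, Or.inl ⟨hK, ⟨e⟩⟩⟩) (fun p h => lie_tw h)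
      fun hq h2 => R.te6 X hna hd ⟨K, iF, iN, r, hq, h2, hr, hK, ⟨e⟩⟩
  · obtain ⟨K, iF, iN, r, hr, hK, ⟨e⟩⟩ := h
    exact R.lie hna hd (F := K) (fun p => IsTwistedE6D4Char p X)
      (fun p hp => ⟨K, iF, iN, hp, r, hr, Or.inr ⟨hK, ⟨e⟩⟩⟩) (fun p h => lie_tw h)
      fun hq h2 => R.td4 X hna hd ⟨K, iF, iN, r, hq, h2, hr, hK, ⟨e⟩⟩
  · exact R.lie2 X hna hd (Or.inr (Or.inr (Or.inr (Or.inr (Or.inr (Or.inr (Or.inr (Or.inr (Or.inl ⟨rfl, h⟩)))))))))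
  · by_cases hp3 : q = 3
    · exact R.lieq X hna hd (Or.inr (Or.inr (Or.inr (Or.inr (Or.inr (Or.inr (Or.inr (Or.inr (Or.inr (Or.inr
        ⟨hp3, h⟩))))))))))
    · exact R.ree hp3 X hna hd h
  · exact R.lie2 X hna hd (Or.inr (Or.inr (Or.inr (Or.inr (Or.inr (Or.inr (Or.inr (Or.inr (Or.inr (Or.inl
      ⟨rfl, h⟩))))))))))
  · exact R.tits X hna hd h

/-- **the dispatch** -/
theorem RowsP.known (R : RowsP q) {G : Type u} [Group G] [Finite G] [IsSimpleGroup G]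
    (hna : ¬ IsMulCommutative G) (hd : q ∣ Nat.card G) (hk : IsKnownSimple' G) : RowP q G := by
  have e : G ≃* Shrink.{0} G := (Shrink.mulEquiv.{0}).symm
  have hf : Finite (Shrink.{0} G) := Finite.of_equiv _ e.toEquiv
  have hs : IsSimpleGroup (Shrink.{0} G) := e.symm.isSimpleGroup
  have h1 := nonab_congr e hna
  have h2 : q ∣ Nat.card (Shrink.{0} G) := by rwa [← Nat.card_congr e.toEquiv]
  refine RowP.congr e ?_
  rcases OddHalf.Known.isKnownSimple'_congr e hna hk with h | h | h | h | h | h | h | h | h | h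
  · exfalso
    have h3 : (Nat.card (Shrink.{0} G)).Prime := h
    have : Fact (Nat.card (Shrink.{0} G)).Prime := ⟨h3⟩
    have hc : IsCyclic (Shrink.{0} G) := isCyclic_of_prime_card rfl
    exact h1 ⟨⟨fun a b => by
      let _ : CommGroup (Shrink.{0} G) := IsCyclic.commGroup
      exact mul_comm a b⟩⟩
  · exact R.alt _ h1 h2 h
  · exact R.rpsl h1 h2 h
  · exact R.rpsp h1 h2 h
  · exact R.rpsu h1 h2 h
  · exact R.rpodd h1 h2 h
  · exact R.rpplus h1 h2 h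
  · exact R.rpminus h1 h2 h
  · exact R.rexc h1 h2 h
  · exact R.spor _ h1 h2 h

/-- **all simple groups**, from the rows and the classification -/
theorem RowsP.all (R : RowsP q) (hcfsg : ∀ (G : Type u) [Group G] [Finite G] [IsSimpleGroup G], IsKnownSimple' G) :
    AllRowsP.{u} q := fun S _ _ _ hna hd => R.known hna hd (hcfsg S)

end dispatch

/-- **the end**: the text of S4884 from the reduction and the rows -/
theorem finalP (hR : ReductionP.{u}) (hcfsg : ∀ (G : Type u) [Group G] [Finite G] [IsSimpleGroup G], IsKnownSimple' G)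
    (q : ℕ) [Fact q.Prime] (R : RowsP q) (hq : q ≠ 2) (M2 Mq : Ideal AlgInt) (hM2 : IsPModular 2 M2)
    (hMq : IsPModular q Mq) {G : Type u} [Group G] [Finite G] (h : HypH q M2 Mq G) :
    ∃ (P : Sylow 2 G) (Q : Sylow q G), ∀ x ∈ (P : Subgroup G), ∀ y ∈ (Q : Subgroup G), x * y = y * x :=
  hR q hq (R.all hcfsg) M2 Mq hM2 hMq G h

/-- **THE END**: S4884 from the rows -/
theorem result_of (hOut : ∀ (S : Type u) [Group S] [Finite S] [IsSimpleGroup S], Group.IsSolvable (Out S))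
    (hcfsg : ∀ (G : Type u) [Group G] [Finite G] [IsSimpleGroup G], IsKnownSimple' G)
    (q : ℕ) [Fact q.Prime] (R : RowsP q) (hq : q ≠ 2) (M2 Mq : Ideal AlgInt) (hM2 : IsPModular 2 M2)
    (hMq : IsPModular q Mq) {G : Type u} [Group G] [Finite G] (h : HypH q M2 Mq G) :
    ∃ (P : Sylow 2 G) (Q : Sylow q G), ∀ x ∈ (P : Subgroup G), ∀ y ∈ (Q : Subgroup G), x * y = y * x :=
  finalP (reductionP hOut) hcfsg q R hq M2 Mq hM2 hMq h

/-- rows of helper706 -/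
theorem RowsP.of_rows {q : ℕ} (R : H706.PB.Rows q) : RowsP q where
  alt := .of_rowFor R.alt
  spor := .of_rowFor R.spor
  tits := .of_rowFor R.tits
  lieq := .of_rowFor R.lieq
  lie2 := .of_rowFor R.lie2
  psl := .of_real R.psl
  psp := .of_real R.psp
  psu := .of_real R.psu
  oodd := .of_real R.oodd
  oplus := .of_real R.oplus
  ominus := .of_real R.ominus
  g2 := .of_real R.g2
  f4 := .of_real R.f4
  e6 := .of_real R.e6
  e7 := .of_real R.e7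
  e8 := .of_real R.e8
  te6 := .of_real R.te6
  td4 := .of_real R.td4
  ree := fun h => .of_real (R.ree h)

end Cfsg.Agent.H362.PB84
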