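import Cfsg.Agent.H362.PB84.Red
import Cfsg.Agent.H362.PB84.FEB
import Cfsg.Agent.Lib.Cores

/-!
# S4884, step 3b: the minimal normal subgroup is simple (helper362)

* `mem_of_sup_centralizer` : `Irr(G / N C_G(P_N)) ⊆ B_p(G)`;
* `sup_eq_top` : `Irr(G/K) ⊆ B_2(G)`, `Irr(G/L) ⊆ B_q(G)` ⇒ `G = K L`;
* `isSimpleGroup_of` : the minimal normal subgroup is simple.
-/

set_option autoImplicit false

open Cfsg Subgroup

namespace Cfsg.Agent.H362.PB84

open Cfsg.Agent.H319.PQ Cfsg.Agent.H706.PB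

universe u

variable {G : Type u} [Group G] [Finite G]

/-- `Irr(G / N C_G(P)) ⊆ B_p(G)` -/
theorem mem_of_sup_centralizer {p : ℕ} [Fact p.Prime] {M : Ideal AlgInt} (hM : IsPModular p M) (N : Subgroup G)
    [N.Normal] (P : Sylow p N) {χ : IrrCharacter G}
    (h : ∀ n ∈ N ⊔ centralizer (((P : Subgroup N).map N.subtype : Subgroup G) : Set G),
      (χ : G → ℂ) n = (χ : G → ℂ) 1) : χ ∈ principalBlock M G := by
  set P' : Subgroup G := (P : Subgroup N).map N.subtype with hP'
  set C := centralizer (P' : Set G) with hC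
  have hMn : (N ⊔ C).Normal := normal_sup_centralizer N P
  have hPle : P' ≤ N ⊔ C := (map_subtype_le _).trans le_sup_left
  have hPp : IsPGroup p (P'.subgroupOf (N ⊔ C)) := by
    have h5 : IsPGroup p P' := P.2.map _
    exact h5.comap_of_injective (N ⊔ C).subtype (subtype_injective _)
  obtain ⟨U, hU⟩ := hPp.exists_le_sylow
  refine Red2.mem_of_le_chKer hM (N ⊔ C) U ?_ h
  refine le_trans (centralizer_le ?_) (le_sup_right : C ≤ N ⊔ C)
  intro x hx
  exact ⟨⟨x, hPle hx⟩, hU hx, rfl⟩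

/-- **`G = K L`** -/
theorem sup_eq_top {q : ℕ} [Fact q.Prime] (hR : AllRowsP.{u} q) {M2 Mq : Ideal AlgInt} (hH : HypH q M2 Mq G)
    (K L : Subgroup G) [K.Normal] [L.Normal]
    (hK : ∀ χ : IrrCharacter G, (∀ n ∈ K, (χ : G → ℂ) n = (χ : G → ℂ) 1) → χ ∈ principalBlock M2 G)
    (hL : ∀ χ : IrrCharacter G, (∀ n ∈ L, (χ : G → ℂ) n = (χ : G → ℂ) 1) → χ ∈ principalBlock Mq G) :
    K ⊔ L = ⊤ := by
  by_contra hne
  have : Nontrivial (G ⧸ (K ⊔ L)) := H360.PB.nontrivial_quotient _ hne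
  obtain ⟨χ, h1, h2, h3⟩ := FEB.F hR.allB (G ⧸ (K ⊔ L))
  apply h1
  apply infl_eq_one (K ⊔ L)
  refine hH _ (hK _ fun n hn => infl_apply_of_mem _ χ (mem_sup_left hn))
    (hL _ fun n hn => infl_apply_of_mem _ χ (mem_sup_right hn)) ?_ ?_
  · rwa [charDegree_infl]
  · rwa [charDegree_infl]

/-- elements centralizing `P_N` normalize a minimal normal subgroup `S` of `N` with `p ∣ |S|` -/
theorem conj_le_of_centralizer {p : ℕ} [hp : Fact p.Prime] (N : Subgroup G) [N.Normal] (P : Sylow p N)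
    (S : Subgroup N) [hSn : S.Normal] (hS : ∀ K : Subgroup N, K.Normal → K ≤ S → K ≠ ⊥ → K = S)
    (hpS : p ∣ Nat.card S) {c : G} (hc : c ∈ centralizer (((P : Subgroup N).map N.subtype : Subgroup G) : Set G)) :
    ∀ x ∈ S.map N.subtype, c * x * c⁻¹ ∈ S.map N.subtype := by
  -- an element of order `p` of `S` in `P`
  obtain ⟨x, hx⟩ := exists_prime_orderOf_dvd_card' p hpS
  have hz : IsPGroup p (zpowers (x : N)) := by
    refine IsPGroup.of_card (n := 1) ?_
    rw [Nat.card_zpowers, pow_one, ← hx]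
    exact (Subgroup.orderOf_coe x)
  obtain ⟨Q, hQ⟩ := hz.exists_le_sylow
  obtain ⟨g, hg⟩ := MulAction.exists_smul_eq N Q P
  set y : N := g * x * g⁻¹ with hy
  have hyP : y ∈ (P : Subgroup N) := by
    rw [← hg]
    exact Subgroup.smul_mem_pointwise_smul_iff (a := MulAut.conj g) (S := (Q : Subgroup N)) (x := (x : N)) |>.2
      (hQ (mem_zpowers _))
  have hyS : y ∈ S := hSn.conj_mem _ x.2 g
  have hy1 : y ≠ 1 := by
    intro h
    have h1 : (x : N) = 1 := by
      have h2 : (x : N) = g⁻¹ * y * g := by rw [hy]; group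
      rw [h2, h]; group
    have h2 : x = 1 := Subtype.ext h1
    rw [h2, orderOf_one] at hx
    exact hp.out.one_lt.ne hx
  -- the conjugate
  set T : Subgroup N := S.map (MulAut.conjNormal c : MulAut N).toMonoidHom with hT
  have hTn : T.Normal := hSn.map _ (MulAut.conjNormal c : MulAut N).surjective
  have hyT : y ∈ T := by
    refine ⟨y, hyS, ?_⟩
    apply Subtype.ext
    show ((MulAut.conjNormal c y : N) : G) = y
    rw [MulAut.conjNormal_apply]
    have h1 := mem_centralizer_iff.1 hc (y : G) ⟨y, hyP, rfl⟩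
    rw [← h1, mul_assoc, mul_inv_cancel, mul_one]
  have hST : S ⊓ T = S := by
    refine hS _ inferInstance inf_le_left ?_
    intro h
    have h1 : y ∈ S ⊓ T := ⟨hyS, hyT⟩
    rw [h, mem_bot] at h1
    exact hy1 h1
  have hcard : Nat.card T = Nat.card S := card_map_of_injective (MulAut.conjNormal c : MulAut N).injective
  have hTS : S = T := Subgroup.eq_of_le_of_card_ge (inf_eq_left.1 hST) hcard.le
  rintro _ ⟨z, hz, rfl⟩
  have h1 : (MulAut.conjNormal c : MulAut N) z ∈ T := ⟨z, hz, rfl⟩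
  rw [← hTS] at h1
  refine ⟨_, h1, ?_⟩
  exact MulAut.conjNormal_apply c z

/-- **the minimal normal subgroup is simple** -/
theorem isSimpleGroup_of {p r : ℕ} [Fact p.Prime] [Fact r.Prime] (N : Subgroup G) [N.Normal] (hN1 : N ≠ ⊥)
    (huniq : ∀ K : Subgroup G, [K.Normal] → K ≠ ⊥ → N ≤ K) (hp : p ∣ Nat.card N) (hr : r ∣ Nat.card N)
    (P : Sylow p N) (R : Sylow r N)
    (htop : (N ⊔ centralizer (((P : Subgroup N).map N.subtype : Subgroup G) : Set G)) ⊔
      (N ⊔ centralizer (((R : Subgroup N).map N.subtype : Subgroup G) : Set G)) = ⊤) : IsSimpleGroup N := by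
  have hnt : Nontrivial N := (Subgroup.nontrivial_iff_ne_bot N).2 hN1
  obtain ⟨S, hSn, hS1, hS⟩ := exists_minimal (G := N)
  -- both primes divide the order of `S`
  have hdvd : ∀ (l : ℕ) [Fact l.Prime], l ∣ Nat.card N → l ∣ Nat.card S := by
    intro l hl hlN
    by_contra hcon
    have h1 : S ≤ pPrimeCore l N := le_sSup ⟨hSn, (Nat.Prime.coprime_iff_not_dvd hl.out).2 hcon |>.symm⟩
    haveI := Lib.Cores.pPrimeCore_characteristic (G := N) l
    have h2 : (pPrimeCore l N).map N.subtype ≠ ⊥ := by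
      intro h
      rw [(pPrimeCore l N).map_eq_bot_iff_of_injective N.subtype_injective] at h
      exact hS1 (eq_bot_iff.2 (h ▸ h1))
    have h3 := huniq _ h2
    have h4 : pPrimeCore l N = ⊤ := by
      rw [eq_top_iff]
      intro x _
      obtain ⟨y, hy, hyx⟩ := h3 x.2
      have h5 : y = x := Subtype.ext hyx
      exact h5 ▸ hy
    have h5 := (Lib.Cores.pPrimeCore_eq_top_iff (G := N) l).1 h4
    exact (Nat.Prime.coprime_iff_not_dvd hl.out).1 h5.symm hlN
  have hp' := hdvd p hp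
  have hr' := hdvd r hr
  -- `S` is normal in `G`
  have hSG : (S.map N.subtype).Normal := by
    have hNn : N ≤ normalizer ((S.map N.subtype : Subgroup G) : Set G) := by
      intro g hg
      have h1 : ∀ g : G, g ∈ N → ∀ x ∈ S.map N.subtype, g * x * g⁻¹ ∈ S.map N.subtype := by
        rintro g hg _ ⟨x, hx, rfl⟩
        exact ⟨⟨g, hg⟩ * x * ⟨g, hg⟩⁻¹, hSn.conj_mem x hx _, rfl⟩
      rw [mem_normalizer_iff]
      intro x
      refine ⟨h1 g hg x, fun hx => ?_⟩
      have h2 := h1 g⁻¹ (inv_mem hg) _ hx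
      have h3 : g⁻¹ * (g * x * g⁻¹) * g⁻¹⁻¹ = x := by group
      rwa [h3] at h2
    have hC : ∀ (l : ℕ) [Fact l.Prime] (U : Sylow l N), l ∣ Nat.card S →
        centralizer (((U : Subgroup N).map N.subtype : Subgroup G) : Set G) ≤
          normalizer ((S.map N.subtype : Subgroup G) : Set G) := by
      intro l _ U hl c hc
      rw [mem_normalizer_iff]
      intro x
      refine ⟨conj_le_of_centralizer N U S hS hl hc x, fun hx => ?_⟩
      have h2 := conj_le_of_centralizer N U S hS hl (inv_mem hc) _ hx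
      have h3 : c⁻¹ * (c * x * c⁻¹) * c⁻¹⁻¹ = x := by group
      rwa [h3] at h2
    rw [← normalizer_eq_top_iff, eq_top_iff, ← htop]
    exact sup_le (sup_le hNn (hC p P hp')) (sup_le hNn (hC r R hr'))
  have hS2 : S.map N.subtype ≠ ⊥ := by
    intro h
    rw [S.map_eq_bot_iff_of_injective N.subtype_injective] at h
    exact hS1 h
  have hNS := huniq _ hS2
  have htopS : S = ⊤ := by
    rw [eq_top_iff]
    intro x _
    obtain ⟨y, hy, hyx⟩ := hNS x.2
    have h5 : y = x := Subtype.ext hyx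
    exact h5 ▸ hy
  refine ⟨fun K hK => ?_⟩
  by_cases h : K = ⊥
  · exact Or.inl h
  · right
    rw [hS K hK (htopS ▸ le_top) h, htopS]

end Cfsg.Agent.H362.PB84
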